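import Groth.Agent.Lib.FibRankH1.Basic
import Mathlib.AlgebraicGeometry.Morphisms.Finite
import Mathlib.AlgebraicGeometry.Morphisms.Flat
import Mathlib.AlgebraicGeometry.Morphisms.FinitePresentation
import Mathlib.RingTheory.Finiteness.ModuleFinitePresentation

/-!
# Finite morphisms to reduced schemes with constant geometric fibres

A finite morphism to a reduced scheme over a field whose fibres over all geometric points are isomorphic
to a fixed finite scheme over the ground field is flat and locally of finite presentation.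
-/

set_option autoImplicit false
set_option linter.style.haveILetI false
set_option backward.isDefEq.respectTransparency false
set_option backward.isDefEq.respectTransparency.types false

universe u

open CategoryTheory CategoryTheory.Limits AlgebraicGeometry TensorProduct

noncomputable section

namespace Groth.Agent.FibreFlat25

theorem finrank_eq_of_iso {k A B R K : Type u} [Field k] [CommRing A] [CommRing B] [CommRing R] [Field K]
    [Algebra k R] [Algebra A B] [Algebra A K] [Algebra k K]
    (e : pullback (Spec.map (CommRingCat.ofHom (algebraMap A B))) (Spec.map (CommRingCat.ofHom (algebraMap A K))) ≅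
      pullback (Spec.map (CommRingCat.ofHom (algebraMap k R))) (Spec.map (CommRingCat.ofHom (algebraMap k K))))
    (he : e.hom ≫ pullback.snd _ _ = pullback.snd _ _) :
    Module.finrank K (K ⊗[A] B) = Module.finrank k R := by
  let E : Spec (CommRingCat.of (B ⊗[A] K)) ≅ Spec (CommRingCat.of (R ⊗[k] K)) :=
    (pullbackSpecIso A B K).symm ≪≫ e ≪≫ pullbackSpecIso k R K
  have hE : E.hom ≫ Spec.map (CommRingCat.ofHom (RingHomClass.toRingHom (Algebra.TensorProduct.includeRight (R := k) (A := R) (B := K)))) =
      Spec.map (CommRingCat.ofHom (RingHomClass.toRingHom (Algebra.TensorProduct.includeRight (R := A) (A := B) (B := K)))) := by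
    simp only [E, Iso.trans_hom, Iso.symm_hom, Category.assoc]
    rw [pullbackSpecIso_hom_snd, he, pullbackSpecIso_inv_snd]
  let ρ : CommRingCat.of (R ⊗[k] K) ≅ CommRingCat.of (B ⊗[A] K) :=
    ⟨Spec.preimage E.hom, Spec.preimage E.inv, Spec.map_injective (by simp), Spec.map_injective (by simp)⟩
  have hρ : CommRingCat.ofHom (RingHomClass.toRingHom (Algebra.TensorProduct.includeRight (R := k) (A := R) (B := K))) ≫ ρ.hom =
      CommRingCat.ofHom (RingHomClass.toRingHom (Algebra.TensorProduct.includeRight (R := A) (A := B) (B := K))) :=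
    Spec.map_injective (by rw [Spec.map_comp, Spec.map_preimage, hE])
  let r : K ⊗[k] R ≃+* K ⊗[A] B :=
    ((Algebra.TensorProduct.comm k K R).toRingEquiv.trans ρ.commRingCatIsoToRingEquiv).trans
      (Algebra.TensorProduct.comm A B K).toRingEquiv
  let r' : K ⊗[k] R ≃ₐ[K] K ⊗[A] B := AlgEquiv.ofRingEquiv (f := r) fun c => by
    have h := ConcreteCategory.congr_hom hρ c
    show (Algebra.TensorProduct.comm A B K) (ρ.hom ((Algebra.TensorProduct.comm k K R) (c ⊗ₜ[k] 1))) = c ⊗ₜ[A] 1
    rw [Algebra.TensorProduct.comm_tmul]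
    exact (congrArg (Algebra.TensorProduct.comm A B K) h).trans (Algebra.TensorProduct.comm_tmul ..)
  rw [← r'.toLinearEquiv.finrank_eq, Module.finrank_baseChange]

theorem flat_finitePresentation_of_fibres {A B : Type u} [CommRing A] [IsReduced A] [CommRing B] [Algebra A B]
    [Module.Finite A B] (N : ℕ)
    (h : ∀ (p : PrimeSpectrum A), Module.finrank (AlgebraicClosure p.asIdeal.ResidueField)
      (AlgebraicClosure p.asIdeal.ResidueField ⊗[A] B) = N) :
    Module.Flat A B ∧ Algebra.FinitePresentation A B := by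
  have hfr : ∀ p : PrimeSpectrum A, FibRankH1.fr B p = N := fun p => by
    rw [← h p, ← (AlgebraTensorModule.cancelBaseChange A p.asIdeal.ResidueField (AlgebraicClosure p.asIdeal.ResidueField)
      (AlgebraicClosure p.asIdeal.ResidueField) B).finrank_eq, Module.finrank_baseChange]
    rfl
  haveI := FibRankH1.projective_of_eventually (R := A) B fun x => Filter.Eventually.of_forall fun y => by
    rw [hfr, hfr]
  haveI := Module.finitePresentation_of_projective A B
  exact ⟨inferInstance, inferInstance⟩

theorem flat_lfp_affine {k : Type u} [Field k] {Q X Z : Scheme.{u}} [IsAffine X] [IsAffine Z] [IsAffine Q]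
    [IsReduced X] (q : Q ⟶ Spec (CommRingCat.of k)) (g : X ⟶ Spec (CommRingCat.of k)) (p : Z ⟶ X) [IsFinite p]
    (h : ∀ (K : Type u) [Field K] [IsAlgClosed K] (ξ : Spec (CommRingCat.of K) ⟶ X),
      ∃ e : pullback p ξ ≅ pullback q (ξ ≫ g), e.hom ≫ pullback.snd _ _ = pullback.snd _ _) :
    Flat p ∧ LocallyOfFinitePresentation p := by
  let A := Γ(X, ⊤)
  let B := Γ(Z, ⊤)
  let R := Γ(Q, ⊤)
  letI : Algebra A B := p.appTop.hom.toAlgebra
  let χ : CommRingCat.of k ⟶ A := Spec.preimage (X.isoSpec.inv ≫ g)
  let ρ : CommRingCat.of k ⟶ R := Spec.preimage (Q.isoSpec.inv ≫ q)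
  letI : Algebra k R := ρ.hom.toAlgebra
  have hfin : RingHom.Finite p.appTop.hom :=
    ((HasAffineProperty.iff_of_isAffine (P := @IsFinite)).1 ‹IsFinite p›).2
  haveI : Module.Finite A B := hfin
  haveI : _root_.IsReduced A := inferInstance
  obtain ⟨h1, h2⟩ := flat_finitePresentation_of_fibres (A := A) (B := B) (Module.finrank k R) fun P => by
    let K := AlgebraicClosure P.asIdeal.ResidueField
    letI : Algebra k K := ((algebraMap A K).comp χ.hom).toAlgebra
    let ξ : Spec (CommRingCat.of K) ⟶ X := Spec.map (CommRingCat.ofHom (algebraMap A K)) ≫ X.isoSpec.inv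
    obtain ⟨e, he⟩ := h K ξ
    have e1 : Spec.map (CommRingCat.ofHom (algebraMap A B)) = Z.isoSpec.inv ≫ p ≫ X.isoSpec.hom := by
      rw [Iso.eq_inv_comp]; exact Scheme.isoSpec_hom_naturality p
    have e2 : Spec.map (CommRingCat.ofHom (algebraMap k R)) = Q.isoSpec.inv ≫ q := Spec.map_preimage _
    have e3 : Spec.map (CommRingCat.ofHom (algebraMap k K)) = ξ ≫ g := by
      show _ = (Spec.map (CommRingCat.ofHom (algebraMap A K)) ≫ X.isoSpec.inv) ≫ g
      rw [Category.assoc, show X.isoSpec.inv ≫ g = Spec.map χ from (Spec.map_preimage _).symm, ← Spec.map_comp]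
      rfl
    let l : pullback (Spec.map (CommRingCat.ofHom (algebraMap A B))) (Spec.map (CommRingCat.ofHom (algebraMap A K))) ≅
        pullback p ξ :=
      asIso (pullback.map _ _ _ _ Z.isoSpec.inv (𝟙 _) X.isoSpec.inv (by rw [e1]; simp) (by simp [ξ]))
    let r : pullback q (ξ ≫ g) ≅
        pullback (Spec.map (CommRingCat.ofHom (algebraMap k R))) (Spec.map (CommRingCat.ofHom (algebraMap k K))) :=
      asIso (pullback.map _ _ _ _ Q.isoSpec.hom (𝟙 _) (𝟙 _) (by rw [e2]; simp) (by rw [e3]; simp))
    refine finrank_eq_of_iso (l ≪≫ e ≪≫ r) ?_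
    rw [Iso.trans_hom, Iso.trans_hom, Category.assoc, Category.assoc]
    refine (congrArg (l.hom ≫ ·) (congrArg (e.hom ≫ ·) ((pullback.lift_snd _ _ _).trans (Category.comp_id _)))).trans ?_
    exact (congrArg (l.hom ≫ ·) he).trans ((pullback.lift_snd _ _ _).trans (Category.comp_id _))
  have hF : p.appTop.hom.Flat := h1
  have hP : p.appTop.hom.FinitePresentation := h2
  exact ⟨(HasRingHomProperty.iff_of_isAffine (P := @Flat)).2 hF,
    (HasRingHomProperty.iff_of_isAffine (P := @LocallyOfFinitePresentation)).2 hP⟩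

/-- Finite with constant geometric fibres over a reduced base: flat and of finite presentation. -/
theorem flat_lfp_of_fibres {k : Type u} [Field k] {Q X Z : Scheme.{u}} [IsReduced X]
    (q : Q ⟶ Spec (CommRingCat.of k)) [IsFinite q] (g : X ⟶ Spec (CommRingCat.of k)) (p : Z ⟶ X) [IsFinite p]
    (h : ∀ (K : Type u) [Field K] [IsAlgClosed K] (ξ : Spec (CommRingCat.of K) ⟶ X),
      ∃ e : pullback p ξ ≅ pullback q (ξ ≫ g), e.hom ≫ pullback.snd _ _ = pullback.snd _ _) :
    Flat p ∧ LocallyOfFinitePresentation p := by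
  haveI : IsAffine Q := isAffine_of_isAffineHom q
  have key : ∀ U : X.affineOpens, Flat (p ∣_ U.1) ∧ LocallyOfFinitePresentation (p ∣_ U.1) := by
    intro U
    haveI : IsAffine U.1.toScheme := U.2
    haveI : IsAffine (p ⁻¹ᵁ U.1).toScheme := U.2.preimage p
    haveI : IsFinite (p ∣_ U.1) := IsZariskiLocalAtTarget.restrict ‹IsFinite p› U.1
    refine flat_lfp_affine q (U.1.ι ≫ g) (p ∣_ U.1) fun K _ _ ξ => ?_
    obtain ⟨e, he⟩ := h K (ξ ≫ U.1.ι)
    have sq := (IsPullback.of_hasPullback (p ∣_ U.1) ξ).paste_horiz (isPullback_morphismRestrict p U.1).flip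
    refine ⟨(sq.isoPullback) ≪≫ e ≪≫ (pullback.congrHom rfl (Category.assoc _ _ _)), ?_⟩
    simp only [Iso.trans_hom, Category.assoc, pullback.congrHom_hom, pullback.lift_snd, Category.comp_id, he,
      IsPullback.isoPullback_hom_snd]
  exact ⟨(IsZariskiLocalAtTarget.iff_of_iSup_eq_top (P := @Flat) _ (iSup_affineOpens_eq_top X)).2 fun U => (key U).1,
    (IsZariskiLocalAtTarget.iff_of_iSup_eq_top (P := @LocallyOfFinitePresentation) _ (iSup_affineOpens_eq_top X)).2
      fun U => (key U).2⟩

end Groth.Agent.FibreFlat25
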